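import Cfsg.Agent.H18.TEg.U.D0

/-! Generated by tools/h0/tr.py. -/

set_option maxRecDepth 100000
set_option maxHeartbeats 0

namespace H18.TE.U
open H16 H0.TR
open scoped commutatorElement

theorem th_f_23_0 : allZ (H0.Fi.ncEnt t_P id [nat_lit 108, nat_lit 380] thF (H0.Fi.digW (nat_lit 2) (nat_lit 9) (nat_lit 6)) (H0.Fi.digW (nat_lit 2) (nat_lit 0) (nat_lit 9)) (nat_lit 23)) (nat_lit 0) (nat_lit 512) = true := by decide +kernel
theorem th_f_24_0 : allZ (H0.Fi.ncEnt t_P id [nat_lit 108, nat_lit 380] thF (H0.Fi.digW (nat_lit 2) (nat_lit 9) (nat_lit 6)) (H0.Fi.digW (nat_lit 2) (nat_lit 0) (nat_lit 9)) (nat_lit 24)) (nat_lit 0) (nat_lit 512) = true := by decide +kernel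
theorem th_f_25_0 : allZ (H0.Fi.ncEnt t_P id [nat_lit 108, nat_lit 380] thF (H0.Fi.digW (nat_lit 2) (nat_lit 9) (nat_lit 6)) (H0.Fi.digW (nat_lit 2) (nat_lit 0) (nat_lit 9)) (nat_lit 25)) (nat_lit 0) (nat_lit 512) = true := by decide +kernel
theorem th_f_26_0 : allZ (H0.Fi.ncEnt t_P id [nat_lit 108, nat_lit 380] thF (H0.Fi.digW (nat_lit 2) (nat_lit 9) (nat_lit 6)) (H0.Fi.digW (nat_lit 2) (nat_lit 0) (nat_lit 9)) (nat_lit 26)) (nat_lit 0) (nat_lit 512) = true := by decide +kernel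
theorem th_f_27_0 : allZ (H0.Fi.ncEnt t_P id [nat_lit 108, nat_lit 380] thF (H0.Fi.digW (nat_lit 2) (nat_lit 9) (nat_lit 6)) (H0.Fi.digW (nat_lit 2) (nat_lit 0) (nat_lit 9)) (nat_lit 27)) (nat_lit 0) (nat_lit 512) = true := by decide +kernel
theorem th_f_28_0 : allZ (H0.Fi.ncEnt t_P id [nat_lit 108, nat_lit 380] thF (H0.Fi.digW (nat_lit 2) (nat_lit 9) (nat_lit 6)) (H0.Fi.digW (nat_lit 2) (nat_lit 0) (nat_lit 9)) (nat_lit 28)) (nat_lit 0) (nat_lit 512) = true := by decide +kernel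
theorem th_f_29_0 : allZ (H0.Fi.ncEnt t_P id [nat_lit 108, nat_lit 380] thF (H0.Fi.digW (nat_lit 2) (nat_lit 9) (nat_lit 6)) (H0.Fi.digW (nat_lit 2) (nat_lit 0) (nat_lit 9)) (nat_lit 29)) (nat_lit 0) (nat_lit 512) = true := by decide +kernel
theorem th_f_30_0 : allZ (H0.Fi.ncEnt t_P id [nat_lit 108, nat_lit 380] thF (H0.Fi.digW (nat_lit 2) (nat_lit 9) (nat_lit 6)) (H0.Fi.digW (nat_lit 2) (nat_lit 0) (nat_lit 9)) (nat_lit 30)) (nat_lit 0) (nat_lit 512) = true := by decide +kernel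
theorem th_f_31_0 : allZ (H0.Fi.ncEnt t_P id [nat_lit 108, nat_lit 380] thF (H0.Fi.digW (nat_lit 2) (nat_lit 9) (nat_lit 6)) (H0.Fi.digW (nat_lit 2) (nat_lit 0) (nat_lit 9)) (nat_lit 31)) (nat_lit 0) (nat_lit 512) = true := by decide +kernel
theorem th_f_32_0 : allZ (H0.Fi.ncEnt t_P id [nat_lit 108, nat_lit 380] thF (H0.Fi.digW (nat_lit 2) (nat_lit 9) (nat_lit 6)) (H0.Fi.digW (nat_lit 2) (nat_lit 0) (nat_lit 9)) (nat_lit 32)) (nat_lit 0) (nat_lit 512) = true := by decide +kernel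
theorem th_f_33_0 : allZ (H0.Fi.ncEnt t_P id [nat_lit 108, nat_lit 380] thF (H0.Fi.digW (nat_lit 2) (nat_lit 9) (nat_lit 6)) (H0.Fi.digW (nat_lit 2) (nat_lit 0) (nat_lit 9)) (nat_lit 33)) (nat_lit 0) (nat_lit 512) = true := by decide +kernel
theorem th_f_34_0 : allZ (H0.Fi.ncEnt t_P id [nat_lit 108, nat_lit 380] thF (H0.Fi.digW (nat_lit 2) (nat_lit 9) (nat_lit 6)) (H0.Fi.digW (nat_lit 2) (nat_lit 0) (nat_lit 9)) (nat_lit 34)) (nat_lit 0) (nat_lit 512) = true := by decide +kernel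
theorem th_f_35_0 : allZ (H0.Fi.ncEnt t_P id [nat_lit 108, nat_lit 380] thF (H0.Fi.digW (nat_lit 2) (nat_lit 9) (nat_lit 6)) (H0.Fi.digW (nat_lit 2) (nat_lit 0) (nat_lit 9)) (nat_lit 35)) (nat_lit 0) (nat_lit 512) = true := by decide +kernel
theorem th_f_36_0 : allZ (H0.Fi.ncEnt t_P id [nat_lit 108, nat_lit 380] thF (H0.Fi.digW (nat_lit 2) (nat_lit 9) (nat_lit 6)) (H0.Fi.digW (nat_lit 2) (nat_lit 0) (nat_lit 9)) (nat_lit 36)) (nat_lit 0) (nat_lit 512) = true := by decide +kernel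
theorem th_f_37_0 : allZ (H0.Fi.ncEnt t_P id [nat_lit 108, nat_lit 380] thF (H0.Fi.digW (nat_lit 2) (nat_lit 9) (nat_lit 6)) (H0.Fi.digW (nat_lit 2) (nat_lit 0) (nat_lit 9)) (nat_lit 37)) (nat_lit 0) (nat_lit 512) = true := by decide +kernel
theorem th_f_38_0 : allZ (H0.Fi.ncEnt t_P id [nat_lit 108, nat_lit 380] thF (H0.Fi.digW (nat_lit 2) (nat_lit 9) (nat_lit 6)) (H0.Fi.digW (nat_lit 2) (nat_lit 0) (nat_lit 9)) (nat_lit 38)) (nat_lit 0) (nat_lit 512) = true := by decide +kernel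
theorem th_f_39_0 : allZ (H0.Fi.ncEnt t_P id [nat_lit 108, nat_lit 380] thF (H0.Fi.digW (nat_lit 2) (nat_lit 9) (nat_lit 6)) (H0.Fi.digW (nat_lit 2) (nat_lit 0) (nat_lit 9)) (nat_lit 39)) (nat_lit 0) (nat_lit 512) = true := by decide +kernel
theorem th_f_40_0 : allZ (H0.Fi.ncEnt t_P id [nat_lit 108, nat_lit 380] thF (H0.Fi.digW (nat_lit 2) (nat_lit 9) (nat_lit 6)) (H0.Fi.digW (nat_lit 2) (nat_lit 0) (nat_lit 9)) (nat_lit 40)) (nat_lit 0) (nat_lit 512) = true := by decide +kernel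
theorem th_f_41_0 : allZ (H0.Fi.ncEnt t_P id [nat_lit 108, nat_lit 380] thF (H0.Fi.digW (nat_lit 2) (nat_lit 9) (nat_lit 6)) (H0.Fi.digW (nat_lit 2) (nat_lit 0) (nat_lit 9)) (nat_lit 41)) (nat_lit 0) (nat_lit 512) = true := by decide +kernel
theorem th_f_42_0 : allZ (H0.Fi.ncEnt t_P id [nat_lit 108, nat_lit 380] thF (H0.Fi.digW (nat_lit 2) (nat_lit 9) (nat_lit 6)) (H0.Fi.digW (nat_lit 2) (nat_lit 0) (nat_lit 9)) (nat_lit 42)) (nat_lit 0) (nat_lit 512) = true := by decide +kernel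
theorem th_f_43_0 : allZ (H0.Fi.ncEnt t_P id [nat_lit 108, nat_lit 380] thF (H0.Fi.digW (nat_lit 2) (nat_lit 9) (nat_lit 6)) (H0.Fi.digW (nat_lit 2) (nat_lit 0) (nat_lit 9)) (nat_lit 43)) (nat_lit 0) (nat_lit 512) = true := by decide +kernel
theorem th_f_44_0 : allZ (H0.Fi.ncEnt t_P id [nat_lit 108, nat_lit 380] thF (H0.Fi.digW (nat_lit 2) (nat_lit 9) (nat_lit 6)) (H0.Fi.digW (nat_lit 2) (nat_lit 0) (nat_lit 9)) (nat_lit 44)) (nat_lit 0) (nat_lit 512) = true := by decide +kernel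
theorem th_f_45_0 : allZ (H0.Fi.ncEnt t_P id [nat_lit 108, nat_lit 380] thF (H0.Fi.digW (nat_lit 2) (nat_lit 9) (nat_lit 6)) (H0.Fi.digW (nat_lit 2) (nat_lit 0) (nat_lit 9)) (nat_lit 45)) (nat_lit 0) (nat_lit 512) = true := by decide +kernel
theorem th_f_46_0 : allZ (H0.Fi.ncEnt t_P id [nat_lit 108, nat_lit 380] thF (H0.Fi.digW (nat_lit 2) (nat_lit 9) (nat_lit 6)) (H0.Fi.digW (nat_lit 2) (nat_lit 0) (nat_lit 9)) (nat_lit 46)) (nat_lit 0) (nat_lit 512) = true := by decide +kernel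
theorem th_f_47_0 : allZ (H0.Fi.ncEnt t_P id [nat_lit 108, nat_lit 380] thF (H0.Fi.digW (nat_lit 2) (nat_lit 9) (nat_lit 6)) (H0.Fi.digW (nat_lit 2) (nat_lit 0) (nat_lit 9)) (nat_lit 47)) (nat_lit 0) (nat_lit 512) = true := by decide +kernel
theorem th_f_48_0 : allZ (H0.Fi.ncEnt t_P id [nat_lit 108, nat_lit 380] thF (H0.Fi.digW (nat_lit 2) (nat_lit 9) (nat_lit 6)) (H0.Fi.digW (nat_lit 2) (nat_lit 0) (nat_lit 9)) (nat_lit 48)) (nat_lit 0) (nat_lit 512) = true := by decide +kernel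
theorem th_f_49_0 : allZ (H0.Fi.ncEnt t_P id [nat_lit 108, nat_lit 380] thF (H0.Fi.digW (nat_lit 2) (nat_lit 9) (nat_lit 6)) (H0.Fi.digW (nat_lit 2) (nat_lit 0) (nat_lit 9)) (nat_lit 49)) (nat_lit 0) (nat_lit 512) = true := by decide +kernel
theorem th_f_50_0 : allZ (H0.Fi.ncEnt t_P id [nat_lit 108, nat_lit 380] thF (H0.Fi.digW (nat_lit 2) (nat_lit 9) (nat_lit 6)) (H0.Fi.digW (nat_lit 2) (nat_lit 0) (nat_lit 9)) (nat_lit 50)) (nat_lit 0) (nat_lit 512) = true := by decide +kernel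
theorem th_f_51_0 : allZ (H0.Fi.ncEnt t_P id [nat_lit 108, nat_lit 380] thF (H0.Fi.digW (nat_lit 2) (nat_lit 9) (nat_lit 6)) (H0.Fi.digW (nat_lit 2) (nat_lit 0) (nat_lit 9)) (nat_lit 51)) (nat_lit 0) (nat_lit 512) = true := by decide +kernel
theorem th_f_52_0 : allZ (H0.Fi.ncEnt t_P id [nat_lit 108, nat_lit 380] thF (H0.Fi.digW (nat_lit 2) (nat_lit 9) (nat_lit 6)) (H0.Fi.digW (nat_lit 2) (nat_lit 0) (nat_lit 9)) (nat_lit 52)) (nat_lit 0) (nat_lit 512) = true := by decide +kernel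
theorem th_f_53_0 : allZ (H0.Fi.ncEnt t_P id [nat_lit 108, nat_lit 380] thF (H0.Fi.digW (nat_lit 2) (nat_lit 9) (nat_lit 6)) (H0.Fi.digW (nat_lit 2) (nat_lit 0) (nat_lit 9)) (nat_lit 53)) (nat_lit 0) (nat_lit 512) = true := by decide +kernel
theorem th_f_54_0 : allZ (H0.Fi.ncEnt t_P id [nat_lit 108, nat_lit 380] thF (H0.Fi.digW (nat_lit 2) (nat_lit 9) (nat_lit 6)) (H0.Fi.digW (nat_lit 2) (nat_lit 0) (nat_lit 9)) (nat_lit 54)) (nat_lit 0) (nat_lit 512) = true := by decide +kernel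
theorem th_f_55_0 : allZ (H0.Fi.ncEnt t_P id [nat_lit 108, nat_lit 380] thF (H0.Fi.digW (nat_lit 2) (nat_lit 9) (nat_lit 6)) (H0.Fi.digW (nat_lit 2) (nat_lit 0) (nat_lit 9)) (nat_lit 55)) (nat_lit 0) (nat_lit 512) = true := by decide +kernel

end H18.TE.U
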