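import Cfsg.Agent.H18.TEg.U.D0

/-! Generated by tools/h0/tr.py. -/

set_option maxRecDepth 100000
set_option maxHeartbeats 0

namespace H18.TE.U
open H16 H0.TR
open scoped commutatorElement

theorem th_f_56_0 : allZ (H0.Fi.ncEnt t_P id [nat_lit 108, nat_lit 380] thF (H0.Fi.digW (nat_lit 2) (nat_lit 9) (nat_lit 6)) (H0.Fi.digW (nat_lit 2) (nat_lit 0) (nat_lit 9)) (nat_lit 56)) (nat_lit 0) (nat_lit 512) = true := by decide +kernel
theorem th_f_57_0 : allZ (H0.Fi.ncEnt t_P id [nat_lit 108, nat_lit 380] thF (H0.Fi.digW (nat_lit 2) (nat_lit 9) (nat_lit 6)) (H0.Fi.digW (nat_lit 2) (nat_lit 0) (nat_lit 9)) (nat_lit 57)) (nat_lit 0) (nat_lit 512) = true := by decide +kernel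
theorem th_f_58_0 : allZ (H0.Fi.ncEnt t_P id [nat_lit 108, nat_lit 380] thF (H0.Fi.digW (nat_lit 2) (nat_lit 9) (nat_lit 6)) (H0.Fi.digW (nat_lit 2) (nat_lit 0) (nat_lit 9)) (nat_lit 58)) (nat_lit 0) (nat_lit 512) = true := by decide +kernel
theorem th_f_59_0 : allZ (H0.Fi.ncEnt t_P id [nat_lit 108, nat_lit 380] thF (H0.Fi.digW (nat_lit 2) (nat_lit 9) (nat_lit 6)) (H0.Fi.digW (nat_lit 2) (nat_lit 0) (nat_lit 9)) (nat_lit 59)) (nat_lit 0) (nat_lit 512) = true := by decide +kernel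
theorem th_f_60_0 : allZ (H0.Fi.ncEnt t_P id [nat_lit 108, nat_lit 380] thF (H0.Fi.digW (nat_lit 2) (nat_lit 9) (nat_lit 6)) (H0.Fi.digW (nat_lit 2) (nat_lit 0) (nat_lit 9)) (nat_lit 60)) (nat_lit 0) (nat_lit 512) = true := by decide +kernel
theorem th_f_61_0 : allZ (H0.Fi.ncEnt t_P id [nat_lit 108, nat_lit 380] thF (H0.Fi.digW (nat_lit 2) (nat_lit 9) (nat_lit 6)) (H0.Fi.digW (nat_lit 2) (nat_lit 0) (nat_lit 9)) (nat_lit 61)) (nat_lit 0) (nat_lit 512) = true := by decide +kernel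
theorem th_f_62_0 : allZ (H0.Fi.ncEnt t_P id [nat_lit 108, nat_lit 380] thF (H0.Fi.digW (nat_lit 2) (nat_lit 9) (nat_lit 6)) (H0.Fi.digW (nat_lit 2) (nat_lit 0) (nat_lit 9)) (nat_lit 62)) (nat_lit 0) (nat_lit 512) = true := by decide +kernel
theorem th_f_63_0 : allZ (H0.Fi.ncEnt t_P id [nat_lit 108, nat_lit 380] thF (H0.Fi.digW (nat_lit 2) (nat_lit 9) (nat_lit 6)) (H0.Fi.digW (nat_lit 2) (nat_lit 0) (nat_lit 9)) (nat_lit 63)) (nat_lit 0) (nat_lit 512) = true := by decide +kernel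
theorem th_s_0 : allZ (fun c => bif c.beq 0 || H0.Fi.srch thK thF (nat_lit 64) (nat_lit 512) (nat_lit 3) (thK c) (thF c) then 0 else 1) (nat_lit 0) (nat_lit 23) = true := by decide +kernel
theorem th_s_1 : allZ (fun c => bif c.beq 0 || H0.Fi.srch thK thF (nat_lit 64) (nat_lit 512) (nat_lit 3) (thK c) (thF c) then 0 else 1) (nat_lit 23) (nat_lit 23) = true := by decide +kernel
theorem th_s_2 : allZ (fun c => bif c.beq 0 || H0.Fi.srch thK thF (nat_lit 64) (nat_lit 512) (nat_lit 3) (thK c) (thF c) then 0 else 1) (nat_lit 46) (nat_lit 18) = true := by decide +kernel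

end H18.TE.U
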