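import Cfsg.Agent.H18.TEg.U.D0

/-! Generated by tools/h0/tr.py. -/

set_option maxRecDepth 100000
set_option maxHeartbeats 0

namespace H18.TE.U
open H16 H0.TR
open scoped commutatorElement

theorem md_b : ltAll 672 H16.U62.B = 0 ∧ 9196830720 ≠ 0 := by decide +kernel
theorem x_lt : allL (ltAll 10) x_W = true := by decide +kernel
theorem x_m_a : allZ2 (matEnt (wdsP H16.U62.P x_W) x_P) (nat_lit 9) (nat_lit 672) = true := by decide +kernel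
theorem dt_cm : ∀ i j : Fin 4, eqL x_P 9 H16.U62.B ([i, j]) ([j, i]) = 0 := by decide +kernel
theorem dt_cb : ∀ i : Fin 4, eqL x_P 9 H16.U62.B ([i, i, i]) ([]) = 0 := by decide +kernel
theorem dt_hu : ∀ k i : Fin 4, eqL x_P 9 H16.U62.B ([k + 4, i]) ((Uw k i).map Fin.val ++ [k.val + 4]) = 0 := by decide +kernel
theorem dt_uu : ∀ k : Fin 4, eqL x_P 9 H16.U62.B ([k + 4, k + 4]) ([]) = 0 := by decide +kernel
theorem dt_rl : ∀ (k : Fin 4) j, eqL x_P 9 H16.U62.B (sg j ++ [k.val + 4]) (hw k j ++ sg (pj k j)) = 0 := by decide +kernel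
theorem dt_g4 : eqL x_P 9 H16.U62.B ([8, 8, 8, 8]) ([]) = 0 := by decide +kernel
theorem dt_tg : eqL x_P 9 H16.U62.B ([8, 3, 8, 3, 8, 3]) ([]) = 0 := by decide +kernel
theorem dt_gh : ∀ i, eqL x_P 9 H16.U62.B (8 :: hl i) (gw i ++ [8]) = 0 := by decide +kernel
theorem dt_z1 : eqL x_P 9 H16.U62.B ([4, 5, 2]) ([2, 4, 5]) = 0 := by decide +kernel
theorem dt_z2 : eqL x_P 9 H16.U62.B ([6, 4, 5, 6, 2]) ([2, 6, 4, 5, 6]) = 0 := by decide +kernel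
theorem xt_k : allZ (fun a => Nat.add (ltAll 9 (nth [] [[nat_lit 2, nat_lit 4, nat_lit 8, nat_lit 7, nat_lit 8, nat_lit 6, nat_lit 7, nat_lit 6, nat_lit 8, nat_lit 7, nat_lit 8, nat_lit 4, nat_lit 2, nat_lit 2],
  [nat_lit 0, nat_lit 0, nat_lit 1, nat_lit 3, nat_lit 8, nat_lit 1, nat_lit 7, nat_lit 8, nat_lit 1, nat_lit 3, nat_lit 8],
  [nat_lit 1, nat_lit 5, nat_lit 0, nat_lit 8, nat_lit 7, nat_lit 8, nat_lit 6, nat_lit 4, nat_lit 7, nat_lit 8, nat_lit 7, nat_lit 6, nat_lit 5, nat_lit 7, nat_lit 5, nat_lit 2],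
  [nat_lit 1, nat_lit 6, nat_lit 4, nat_lit 6, nat_lit 7, nat_lit 0, nat_lit 8, nat_lit 6, nat_lit 7, nat_lit 8, nat_lit 7, nat_lit 6, nat_lit 7, nat_lit 3, nat_lit 3, nat_lit 8],
  [nat_lit 6, nat_lit 2, nat_lit 5, nat_lit 7, nat_lit 8, nat_lit 1, nat_lit 7, nat_lit 6, nat_lit 5, nat_lit 8, nat_lit 6, nat_lit 7, nat_lit 0, nat_lit 5, nat_lit 4],
  [nat_lit 1, nat_lit 3, nat_lit 4, nat_lit 5, nat_lit 7, nat_lit 6, nat_lit 8, nat_lit 6, nat_lit 7, nat_lit 8, nat_lit 7, nat_lit 4, nat_lit 5, nat_lit 6, nat_lit 2],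
  [nat_lit 7, nat_lit 8, nat_lit 6, nat_lit 7, nat_lit 0, nat_lit 8, nat_lit 7, nat_lit 5, nat_lit 6, nat_lit 8, nat_lit 2, nat_lit 7],
  [nat_lit 7, nat_lit 8, nat_lit 6, nat_lit 2, nat_lit 4, nat_lit 7, nat_lit 8, nat_lit 7, nat_lit 6, nat_lit 3, nat_lit 8, nat_lit 5, nat_lit 7, nat_lit 1],
  [nat_lit 3, nat_lit 3, nat_lit 4, nat_lit 6, nat_lit 7, nat_lit 5, nat_lit 6, nat_lit 8, nat_lit 7, nat_lit 8, nat_lit 6, nat_lit 7, nat_lit 6, nat_lit 4, nat_lit 3],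
  [nat_lit 1, nat_lit 6, nat_lit 7, nat_lit 6, nat_lit 8, nat_lit 3, nat_lit 7, nat_lit 8, nat_lit 3, nat_lit 8, nat_lit 6, nat_lit 7, nat_lit 6, nat_lit 2]] a)) (sumL (fun β => Nat.xor (H16.U62.P a β) (apW x_P (nth [] [[nat_lit 2, nat_lit 4, nat_lit 8, nat_lit 7, nat_lit 8, nat_lit 6, nat_lit 7, nat_lit 6, nat_lit 8, nat_lit 7, nat_lit 8, nat_lit 4, nat_lit 2, nat_lit 2],
  [nat_lit 0, nat_lit 0, nat_lit 1, nat_lit 3, nat_lit 8, nat_lit 1, nat_lit 7, nat_lit 8, nat_lit 1, nat_lit 3, nat_lit 8],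
  [nat_lit 1, nat_lit 5, nat_lit 0, nat_lit 8, nat_lit 7, nat_lit 8, nat_lit 6, nat_lit 4, nat_lit 7, nat_lit 8, nat_lit 7, nat_lit 6, nat_lit 5, nat_lit 7, nat_lit 5, nat_lit 2],
  [nat_lit 1, nat_lit 6, nat_lit 4, nat_lit 6, nat_lit 7, nat_lit 0, nat_lit 8, nat_lit 6, nat_lit 7, nat_lit 8, nat_lit 7, nat_lit 6, nat_lit 7, nat_lit 3, nat_lit 3, nat_lit 8],
  [nat_lit 6, nat_lit 2, nat_lit 5, nat_lit 7, nat_lit 8, nat_lit 1, nat_lit 7, nat_lit 6, nat_lit 5, nat_lit 8, nat_lit 6, nat_lit 7, nat_lit 0, nat_lit 5, nat_lit 4],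
  [nat_lit 1, nat_lit 3, nat_lit 4, nat_lit 5, nat_lit 7, nat_lit 6, nat_lit 8, nat_lit 6, nat_lit 7, nat_lit 8, nat_lit 7, nat_lit 4, nat_lit 5, nat_lit 6, nat_lit 2],
  [nat_lit 7, nat_lit 8, nat_lit 6, nat_lit 7, nat_lit 0, nat_lit 8, nat_lit 7, nat_lit 5, nat_lit 6, nat_lit 8, nat_lit 2, nat_lit 7],
  [nat_lit 7, nat_lit 8, nat_lit 6, nat_lit 2, nat_lit 4, nat_lit 7, nat_lit 8, nat_lit 7, nat_lit 6, nat_lit 3, nat_lit 8, nat_lit 5, nat_lit 7, nat_lit 1],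
  [nat_lit 3, nat_lit 3, nat_lit 4, nat_lit 6, nat_lit 7, nat_lit 5, nat_lit 6, nat_lit 8, nat_lit 7, nat_lit 8, nat_lit 6, nat_lit 7, nat_lit 6, nat_lit 4, nat_lit 3],
  [nat_lit 1, nat_lit 6, nat_lit 7, nat_lit 6, nat_lit 8, nat_lit 3, nat_lit 7, nat_lit 8, nat_lit 3, nat_lit 8, nat_lit 6, nat_lit 7, nat_lit 6, nat_lit 2]] a) β)) H16.U62.B)) 0 10 = true := by decide +kernel
theorem x0_k : 1 < 672 ∧ ltAll 9 [nat_lit 0] = 0 ∧ ltAll 9 [] = 0 ∧ apW x_P [nat_lit 0] 1 ≠ apW x_P [] 1 := by decide +kernel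
theorem p_lt : allL (ltAll 10) p_W = true := by decide +kernel
theorem p_m_a : allZ2 (matEnt (wdsP H16.U62.P p_W) p_P) (nat_lit 3) (nat_lit 672) = true := by decide +kernel
theorem t_lt : allL (ltAll 3) t_W = true := by decide +kernel
theorem t_m_a : allZ2 (matEnt (wdsP p_P t_W) t_P) (nat_lit 15) (nat_lit 672) = true := by decide +kernel
theorem tp_p : allZ2 (pcEnt t_P (nat_lit 2) H16.U62.B tpC) 15 15 = true := by decide +kernel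
theorem tp_e : allL (ltAll 15) tpe = true := by decide +kernel
theorem tpl0_e_0 : allZ (dent tpl0 (wdsP t_P tpe) (nat_lit 672)) (nat_lit 0) (nat_lit 127) = true := by decide +kernel
theorem tpl0_h : 0 < tpl0.n ∧ 0 < tpl0.K ∧ tpl0.Pt 0 < 672 ∧ tpl0.Q (tpl0.Pt 0) = 0 := by decide +kernel
theorem tpl1_e_0 : allZ (dent tpl1 (wdsP t_P tpe) (nat_lit 672)) (nat_lit 0) (nat_lit 127) = true := by decide +kernel
theorem tpl1_h : 0 < tpl1.n ∧ 0 < tpl1.K ∧ tpl1.Pt 0 < 672 ∧ tpl1.Q (tpl1.Pt 0) = 0 := by decide +kernel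
theorem tpl2_e_0 : allZ (dent tpl2 (wdsP t_P tpe) (nat_lit 672)) (nat_lit 0) (nat_lit 1) = true := by decide +kernel
theorem tpl2_h : 0 < tpl2.n ∧ 0 < tpl2.K ∧ tpl2.Pt 0 < 672 ∧ tpl2.Q (tpl2.Pt 0) = 0 := by decide +kernel
theorem tp_f2 : (Nat.ble tpl2.K 19 && Nat.ble (topK []) tpl2.K && fixLetters (wdsP t_P tpe) (topK []) (tpl2.Pt 0)) = true := by decide +kernel
theorem tp_f1 : (Nat.ble tpl1.K 19 && Nat.ble (topK [tpl2]) tpl1.K && fixLetters (wdsP t_P tpe) (topK [tpl2]) (tpl1.Pt 0)) = true := by decide +kernel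
theorem tp_f0 : (Nat.ble tpl0.K 19 && Nat.ble (topK [tpl1, tpl2]) tpl0.K && fixLetters (wdsP t_P tpe) (topK [tpl1, tpl2]) (tpl0.Pt 0)) = true := by decide +kernel
theorem tp_c : chainCard [tpl0, tpl1, tpl2] = 2 ^ 15 := by decide +kernel
theorem tc_k : allZ2 (fun a j => force a fun a => force j fun j => cjL t_P t_P 9 H16.U62.B a [j] [j]) 9 9 = true := by decide +kernel
theorem tq_k : allZ (fun k => force k fun k => fixL t_P 9 H16.U62.B (List.replicate 2 k)) 0 9 = true := by decide +kernel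
theorem th_i_0 : allZ (H0.Fi.invEnt t_P (nat_lit 9) thA) (nat_lit 0) (nat_lit 672) = true := by decide +kernel
theorem th_k_0_0 : allZ (H0.Fi.ncEnt t_P (fun i => ifz (H0.Fi.bit thA i) 0 1) [nat_lit 120, nat_lit 464] thK (H0.Fi.digW (nat_lit 2) (nat_lit 9) (nat_lit 6)) (H0.Fi.digW (nat_lit 2) (nat_lit 9) (nat_lit 6)) (nat_lit 0)) (nat_lit 0) (nat_lit 64) = true := by decide +kernel
theorem th_k_1_0 : allZ (H0.Fi.ncEnt t_P (fun i => ifz (H0.Fi.bit thA i) 0 1) [nat_lit 120, nat_lit 464] thK (H0.Fi.digW (nat_lit 2) (nat_lit 9) (nat_lit 6)) (H0.Fi.digW (nat_lit 2) (nat_lit 9) (nat_lit 6)) (nat_lit 1)) (nat_lit 0) (nat_lit 64) = true := by decide +kernel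
theorem th_k_2_0 : allZ (H0.Fi.ncEnt t_P (fun i => ifz (H0.Fi.bit thA i) 0 1) [nat_lit 120, nat_lit 464] thK (H0.Fi.digW (nat_lit 2) (nat_lit 9) (nat_lit 6)) (H0.Fi.digW (nat_lit 2) (nat_lit 9) (nat_lit 6)) (nat_lit 2)) (nat_lit 0) (nat_lit 64) = true := by decide +kernel
theorem th_k_3_0 : allZ (H0.Fi.ncEnt t_P (fun i => ifz (H0.Fi.bit thA i) 0 1) [nat_lit 120, nat_lit 464] thK (H0.Fi.digW (nat_lit 2) (nat_lit 9) (nat_lit 6)) (H0.Fi.digW (nat_lit 2) (nat_lit 9) (nat_lit 6)) (nat_lit 3)) (nat_lit 0) (nat_lit 64) = true := by decide +kernel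
theorem th_k_4_0 : allZ (H0.Fi.ncEnt t_P (fun i => ifz (H0.Fi.bit thA i) 0 1) [nat_lit 120, nat_lit 464] thK (H0.Fi.digW (nat_lit 2) (nat_lit 9) (nat_lit 6)) (H0.Fi.digW (nat_lit 2) (nat_lit 9) (nat_lit 6)) (nat_lit 4)) (nat_lit 0) (nat_lit 64) = true := by decide +kernel
theorem th_k_5_0 : allZ (H0.Fi.ncEnt t_P (fun i => ifz (H0.Fi.bit thA i) 0 1) [nat_lit 120, nat_lit 464] thK (H0.Fi.digW (nat_lit 2) (nat_lit 9) (nat_lit 6)) (H0.Fi.digW (nat_lit 2) (nat_lit 9) (nat_lit 6)) (nat_lit 5)) (nat_lit 0) (nat_lit 64) = true := by decide +kernel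
theorem th_k_6_0 : allZ (H0.Fi.ncEnt t_P (fun i => ifz (H0.Fi.bit thA i) 0 1) [nat_lit 120, nat_lit 464] thK (H0.Fi.digW (nat_lit 2) (nat_lit 9) (nat_lit 6)) (H0.Fi.digW (nat_lit 2) (nat_lit 9) (nat_lit 6)) (nat_lit 6)) (nat_lit 0) (nat_lit 64) = true := by decide +kernel
theorem th_k_7_0 : allZ (H0.Fi.ncEnt t_P (fun i => ifz (H0.Fi.bit thA i) 0 1) [nat_lit 120, nat_lit 464] thK (H0.Fi.digW (nat_lit 2) (nat_lit 9) (nat_lit 6)) (H0.Fi.digW (nat_lit 2) (nat_lit 9) (nat_lit 6)) (nat_lit 7)) (nat_lit 0) (nat_lit 64) = true := by decide +kernel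
theorem th_k_8_0 : allZ (H0.Fi.ncEnt t_P (fun i => ifz (H0.Fi.bit thA i) 0 1) [nat_lit 120, nat_lit 464] thK (H0.Fi.digW (nat_lit 2) (nat_lit 9) (nat_lit 6)) (H0.Fi.digW (nat_lit 2) (nat_lit 9) (nat_lit 6)) (nat_lit 8)) (nat_lit 0) (nat_lit 64) = true := by decide +kernel
theorem th_k_9_0 : allZ (H0.Fi.ncEnt t_P (fun i => ifz (H0.Fi.bit thA i) 0 1) [nat_lit 120, nat_lit 464] thK (H0.Fi.digW (nat_lit 2) (nat_lit 9) (nat_lit 6)) (H0.Fi.digW (nat_lit 2) (nat_lit 9) (nat_lit 6)) (nat_lit 9)) (nat_lit 0) (nat_lit 64) = true := by decide +kernel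
theorem th_k_10_0 : allZ (H0.Fi.ncEnt t_P (fun i => ifz (H0.Fi.bit thA i) 0 1) [nat_lit 120, nat_lit 464] thK (H0.Fi.digW (nat_lit 2) (nat_lit 9) (nat_lit 6)) (H0.Fi.digW (nat_lit 2) (nat_lit 9) (nat_lit 6)) (nat_lit 10)) (nat_lit 0) (nat_lit 64) = true := by decide +kernel
theorem th_k_11_0 : allZ (H0.Fi.ncEnt t_P (fun i => ifz (H0.Fi.bit thA i) 0 1) [nat_lit 120, nat_lit 464] thK (H0.Fi.digW (nat_lit 2) (nat_lit 9) (nat_lit 6)) (H0.Fi.digW (nat_lit 2) (nat_lit 9) (nat_lit 6)) (nat_lit 11)) (nat_lit 0) (nat_lit 64) = true := by decide +kernel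
theorem th_k_12_0 : allZ (H0.Fi.ncEnt t_P (fun i => ifz (H0.Fi.bit thA i) 0 1) [nat_lit 120, nat_lit 464] thK (H0.Fi.digW (nat_lit 2) (nat_lit 9) (nat_lit 6)) (H0.Fi.digW (nat_lit 2) (nat_lit 9) (nat_lit 6)) (nat_lit 12)) (nat_lit 0) (nat_lit 64) = true := by decide +kernel
theorem th_k_13_0 : allZ (H0.Fi.ncEnt t_P (fun i => ifz (H0.Fi.bit thA i) 0 1) [nat_lit 120, nat_lit 464] thK (H0.Fi.digW (nat_lit 2) (nat_lit 9) (nat_lit 6)) (H0.Fi.digW (nat_lit 2) (nat_lit 9) (nat_lit 6)) (nat_lit 13)) (nat_lit 0) (nat_lit 64) = true := by decide +kernel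
theorem th_k_14_0 : allZ (H0.Fi.ncEnt t_P (fun i => ifz (H0.Fi.bit thA i) 0 1) [nat_lit 120, nat_lit 464] thK (H0.Fi.digW (nat_lit 2) (nat_lit 9) (nat_lit 6)) (H0.Fi.digW (nat_lit 2) (nat_lit 9) (nat_lit 6)) (nat_lit 14)) (nat_lit 0) (nat_lit 64) = true := by decide +kernel
theorem th_k_15_0 : allZ (H0.Fi.ncEnt t_P (fun i => ifz (H0.Fi.bit thA i) 0 1) [nat_lit 120, nat_lit 464] thK (H0.Fi.digW (nat_lit 2) (nat_lit 9) (nat_lit 6)) (H0.Fi.digW (nat_lit 2) (nat_lit 9) (nat_lit 6)) (nat_lit 15)) (nat_lit 0) (nat_lit 64) = true := by decide +kernel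
theorem th_k_16_0 : allZ (H0.Fi.ncEnt t_P (fun i => ifz (H0.Fi.bit thA i) 0 1) [nat_lit 120, nat_lit 464] thK (H0.Fi.digW (nat_lit 2) (nat_lit 9) (nat_lit 6)) (H0.Fi.digW (nat_lit 2) (nat_lit 9) (nat_lit 6)) (nat_lit 16)) (nat_lit 0) (nat_lit 64) = true := by decide +kernel
theorem th_k_17_0 : allZ (H0.Fi.ncEnt t_P (fun i => ifz (H0.Fi.bit thA i) 0 1) [nat_lit 120, nat_lit 464] thK (H0.Fi.digW (nat_lit 2) (nat_lit 9) (nat_lit 6)) (H0.Fi.digW (nat_lit 2) (nat_lit 9) (nat_lit 6)) (nat_lit 17)) (nat_lit 0) (nat_lit 64) = true := by decide +kernel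
theorem th_k_18_0 : allZ (H0.Fi.ncEnt t_P (fun i => ifz (H0.Fi.bit thA i) 0 1) [nat_lit 120, nat_lit 464] thK (H0.Fi.digW (nat_lit 2) (nat_lit 9) (nat_lit 6)) (H0.Fi.digW (nat_lit 2) (nat_lit 9) (nat_lit 6)) (nat_lit 18)) (nat_lit 0) (nat_lit 64) = true := by decide +kernel
theorem th_k_19_0 : allZ (H0.Fi.ncEnt t_P (fun i => ifz (H0.Fi.bit thA i) 0 1) [nat_lit 120, nat_lit 464] thK (H0.Fi.digW (nat_lit 2) (nat_lit 9) (nat_lit 6)) (H0.Fi.digW (nat_lit 2) (nat_lit 9) (nat_lit 6)) (nat_lit 19)) (nat_lit 0) (nat_lit 64) = true := by decide +kernel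
theorem th_k_20_0 : allZ (H0.Fi.ncEnt t_P (fun i => ifz (H0.Fi.bit thA i) 0 1) [nat_lit 120, nat_lit 464] thK (H0.Fi.digW (nat_lit 2) (nat_lit 9) (nat_lit 6)) (H0.Fi.digW (nat_lit 2) (nat_lit 9) (nat_lit 6)) (nat_lit 20)) (nat_lit 0) (nat_lit 64) = true := by decide +kernel
theorem th_k_21_0 : allZ (H0.Fi.ncEnt t_P (fun i => ifz (H0.Fi.bit thA i) 0 1) [nat_lit 120, nat_lit 464] thK (H0.Fi.digW (nat_lit 2) (nat_lit 9) (nat_lit 6)) (H0.Fi.digW (nat_lit 2) (nat_lit 9) (nat_lit 6)) (nat_lit 21)) (nat_lit 0) (nat_lit 64) = true := by decide +kernel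
theorem th_k_22_0 : allZ (H0.Fi.ncEnt t_P (fun i => ifz (H0.Fi.bit thA i) 0 1) [nat_lit 120, nat_lit 464] thK (H0.Fi.digW (nat_lit 2) (nat_lit 9) (nat_lit 6)) (H0.Fi.digW (nat_lit 2) (nat_lit 9) (nat_lit 6)) (nat_lit 22)) (nat_lit 0) (nat_lit 64) = true := by decide +kernel
theorem th_k_23_0 : allZ (H0.Fi.ncEnt t_P (fun i => ifz (H0.Fi.bit thA i) 0 1) [nat_lit 120, nat_lit 464] thK (H0.Fi.digW (nat_lit 2) (nat_lit 9) (nat_lit 6)) (H0.Fi.digW (nat_lit 2) (nat_lit 9) (nat_lit 6)) (nat_lit 23)) (nat_lit 0) (nat_lit 64) = true := by decide +kernel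
theorem th_k_24_0 : allZ (H0.Fi.ncEnt t_P (fun i => ifz (H0.Fi.bit thA i) 0 1) [nat_lit 120, nat_lit 464] thK (H0.Fi.digW (nat_lit 2) (nat_lit 9) (nat_lit 6)) (H0.Fi.digW (nat_lit 2) (nat_lit 9) (nat_lit 6)) (nat_lit 24)) (nat_lit 0) (nat_lit 64) = true := by decide +kernel
theorem th_k_25_0 : allZ (H0.Fi.ncEnt t_P (fun i => ifz (H0.Fi.bit thA i) 0 1) [nat_lit 120, nat_lit 464] thK (H0.Fi.digW (nat_lit 2) (nat_lit 9) (nat_lit 6)) (H0.Fi.digW (nat_lit 2) (nat_lit 9) (nat_lit 6)) (nat_lit 25)) (nat_lit 0) (nat_lit 64) = true := by decide +kernel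
theorem th_k_26_0 : allZ (H0.Fi.ncEnt t_P (fun i => ifz (H0.Fi.bit thA i) 0 1) [nat_lit 120, nat_lit 464] thK (H0.Fi.digW (nat_lit 2) (nat_lit 9) (nat_lit 6)) (H0.Fi.digW (nat_lit 2) (nat_lit 9) (nat_lit 6)) (nat_lit 26)) (nat_lit 0) (nat_lit 64) = true := by decide +kernel
theorem th_k_27_0 : allZ (H0.Fi.ncEnt t_P (fun i => ifz (H0.Fi.bit thA i) 0 1) [nat_lit 120, nat_lit 464] thK (H0.Fi.digW (nat_lit 2) (nat_lit 9) (nat_lit 6)) (H0.Fi.digW (nat_lit 2) (nat_lit 9) (nat_lit 6)) (nat_lit 27)) (nat_lit 0) (nat_lit 64) = true := by decide +kernel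
theorem th_k_28_0 : allZ (H0.Fi.ncEnt t_P (fun i => ifz (H0.Fi.bit thA i) 0 1) [nat_lit 120, nat_lit 464] thK (H0.Fi.digW (nat_lit 2) (nat_lit 9) (nat_lit 6)) (H0.Fi.digW (nat_lit 2) (nat_lit 9) (nat_lit 6)) (nat_lit 28)) (nat_lit 0) (nat_lit 64) = true := by decide +kernel
theorem th_k_29_0 : allZ (H0.Fi.ncEnt t_P (fun i => ifz (H0.Fi.bit thA i) 0 1) [nat_lit 120, nat_lit 464] thK (H0.Fi.digW (nat_lit 2) (nat_lit 9) (nat_lit 6)) (H0.Fi.digW (nat_lit 2) (nat_lit 9) (nat_lit 6)) (nat_lit 29)) (nat_lit 0) (nat_lit 64) = true := by decide +kernel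
theorem th_k_30_0 : allZ (H0.Fi.ncEnt t_P (fun i => ifz (H0.Fi.bit thA i) 0 1) [nat_lit 120, nat_lit 464] thK (H0.Fi.digW (nat_lit 2) (nat_lit 9) (nat_lit 6)) (H0.Fi.digW (nat_lit 2) (nat_lit 9) (nat_lit 6)) (nat_lit 30)) (nat_lit 0) (nat_lit 64) = true := by decide +kernel
theorem th_k_31_0 : allZ (H0.Fi.ncEnt t_P (fun i => ifz (H0.Fi.bit thA i) 0 1) [nat_lit 120, nat_lit 464] thK (H0.Fi.digW (nat_lit 2) (nat_lit 9) (nat_lit 6)) (H0.Fi.digW (nat_lit 2) (nat_lit 9) (nat_lit 6)) (nat_lit 31)) (nat_lit 0) (nat_lit 64) = true := by decide +kernel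
theorem th_k_32_0 : allZ (H0.Fi.ncEnt t_P (fun i => ifz (H0.Fi.bit thA i) 0 1) [nat_lit 120, nat_lit 464] thK (H0.Fi.digW (nat_lit 2) (nat_lit 9) (nat_lit 6)) (H0.Fi.digW (nat_lit 2) (nat_lit 9) (nat_lit 6)) (nat_lit 32)) (nat_lit 0) (nat_lit 64) = true := by decide +kernel
theorem th_k_33_0 : allZ (H0.Fi.ncEnt t_P (fun i => ifz (H0.Fi.bit thA i) 0 1) [nat_lit 120, nat_lit 464] thK (H0.Fi.digW (nat_lit 2) (nat_lit 9) (nat_lit 6)) (H0.Fi.digW (nat_lit 2) (nat_lit 9) (nat_lit 6)) (nat_lit 33)) (nat_lit 0) (nat_lit 64) = true := by decide +kernel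
theorem th_k_34_0 : allZ (H0.Fi.ncEnt t_P (fun i => ifz (H0.Fi.bit thA i) 0 1) [nat_lit 120, nat_lit 464] thK (H0.Fi.digW (nat_lit 2) (nat_lit 9) (nat_lit 6)) (H0.Fi.digW (nat_lit 2) (nat_lit 9) (nat_lit 6)) (nat_lit 34)) (nat_lit 0) (nat_lit 64) = true := by decide +kernel
theorem th_k_35_0 : allZ (H0.Fi.ncEnt t_P (fun i => ifz (H0.Fi.bit thA i) 0 1) [nat_lit 120, nat_lit 464] thK (H0.Fi.digW (nat_lit 2) (nat_lit 9) (nat_lit 6)) (H0.Fi.digW (nat_lit 2) (nat_lit 9) (nat_lit 6)) (nat_lit 35)) (nat_lit 0) (nat_lit 64) = true := by decide +kernel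
theorem th_k_36_0 : allZ (H0.Fi.ncEnt t_P (fun i => ifz (H0.Fi.bit thA i) 0 1) [nat_lit 120, nat_lit 464] thK (H0.Fi.digW (nat_lit 2) (nat_lit 9) (nat_lit 6)) (H0.Fi.digW (nat_lit 2) (nat_lit 9) (nat_lit 6)) (nat_lit 36)) (nat_lit 0) (nat_lit 64) = true := by decide +kernel
theorem th_k_37_0 : allZ (H0.Fi.ncEnt t_P (fun i => ifz (H0.Fi.bit thA i) 0 1) [nat_lit 120, nat_lit 464] thK (H0.Fi.digW (nat_lit 2) (nat_lit 9) (nat_lit 6)) (H0.Fi.digW (nat_lit 2) (nat_lit 9) (nat_lit 6)) (nat_lit 37)) (nat_lit 0) (nat_lit 64) = true := by decide +kernel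
theorem th_k_38_0 : allZ (H0.Fi.ncEnt t_P (fun i => ifz (H0.Fi.bit thA i) 0 1) [nat_lit 120, nat_lit 464] thK (H0.Fi.digW (nat_lit 2) (nat_lit 9) (nat_lit 6)) (H0.Fi.digW (nat_lit 2) (nat_lit 9) (nat_lit 6)) (nat_lit 38)) (nat_lit 0) (nat_lit 64) = true := by decide +kernel
theorem th_k_39_0 : allZ (H0.Fi.ncEnt t_P (fun i => ifz (H0.Fi.bit thA i) 0 1) [nat_lit 120, nat_lit 464] thK (H0.Fi.digW (nat_lit 2) (nat_lit 9) (nat_lit 6)) (H0.Fi.digW (nat_lit 2) (nat_lit 9) (nat_lit 6)) (nat_lit 39)) (nat_lit 0) (nat_lit 64) = true := by decide +kernel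
theorem th_k_40_0 : allZ (H0.Fi.ncEnt t_P (fun i => ifz (H0.Fi.bit thA i) 0 1) [nat_lit 120, nat_lit 464] thK (H0.Fi.digW (nat_lit 2) (nat_lit 9) (nat_lit 6)) (H0.Fi.digW (nat_lit 2) (nat_lit 9) (nat_lit 6)) (nat_lit 40)) (nat_lit 0) (nat_lit 64) = true := by decide +kernel
theorem th_k_41_0 : allZ (H0.Fi.ncEnt t_P (fun i => ifz (H0.Fi.bit thA i) 0 1) [nat_lit 120, nat_lit 464] thK (H0.Fi.digW (nat_lit 2) (nat_lit 9) (nat_lit 6)) (H0.Fi.digW (nat_lit 2) (nat_lit 9) (nat_lit 6)) (nat_lit 41)) (nat_lit 0) (nat_lit 64) = true := by decide +kernel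
theorem th_k_42_0 : allZ (H0.Fi.ncEnt t_P (fun i => ifz (H0.Fi.bit thA i) 0 1) [nat_lit 120, nat_lit 464] thK (H0.Fi.digW (nat_lit 2) (nat_lit 9) (nat_lit 6)) (H0.Fi.digW (nat_lit 2) (nat_lit 9) (nat_lit 6)) (nat_lit 42)) (nat_lit 0) (nat_lit 64) = true := by decide +kernel
theorem th_k_43_0 : allZ (H0.Fi.ncEnt t_P (fun i => ifz (H0.Fi.bit thA i) 0 1) [nat_lit 120, nat_lit 464] thK (H0.Fi.digW (nat_lit 2) (nat_lit 9) (nat_lit 6)) (H0.Fi.digW (nat_lit 2) (nat_lit 9) (nat_lit 6)) (nat_lit 43)) (nat_lit 0) (nat_lit 64) = true := by decide +kernel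
theorem th_k_44_0 : allZ (H0.Fi.ncEnt t_P (fun i => ifz (H0.Fi.bit thA i) 0 1) [nat_lit 120, nat_lit 464] thK (H0.Fi.digW (nat_lit 2) (nat_lit 9) (nat_lit 6)) (H0.Fi.digW (nat_lit 2) (nat_lit 9) (nat_lit 6)) (nat_lit 44)) (nat_lit 0) (nat_lit 64) = true := by decide +kernel
theorem th_k_45_0 : allZ (H0.Fi.ncEnt t_P (fun i => ifz (H0.Fi.bit thA i) 0 1) [nat_lit 120, nat_lit 464] thK (H0.Fi.digW (nat_lit 2) (nat_lit 9) (nat_lit 6)) (H0.Fi.digW (nat_lit 2) (nat_lit 9) (nat_lit 6)) (nat_lit 45)) (nat_lit 0) (nat_lit 64) = true := by decide +kernel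
theorem th_k_46_0 : allZ (H0.Fi.ncEnt t_P (fun i => ifz (H0.Fi.bit thA i) 0 1) [nat_lit 120, nat_lit 464] thK (H0.Fi.digW (nat_lit 2) (nat_lit 9) (nat_lit 6)) (H0.Fi.digW (nat_lit 2) (nat_lit 9) (nat_lit 6)) (nat_lit 46)) (nat_lit 0) (nat_lit 64) = true := by decide +kernel
theorem th_k_47_0 : allZ (H0.Fi.ncEnt t_P (fun i => ifz (H0.Fi.bit thA i) 0 1) [nat_lit 120, nat_lit 464] thK (H0.Fi.digW (nat_lit 2) (nat_lit 9) (nat_lit 6)) (H0.Fi.digW (nat_lit 2) (nat_lit 9) (nat_lit 6)) (nat_lit 47)) (nat_lit 0) (nat_lit 64) = true := by decide +kernel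
theorem th_k_48_0 : allZ (H0.Fi.ncEnt t_P (fun i => ifz (H0.Fi.bit thA i) 0 1) [nat_lit 120, nat_lit 464] thK (H0.Fi.digW (nat_lit 2) (nat_lit 9) (nat_lit 6)) (H0.Fi.digW (nat_lit 2) (nat_lit 9) (nat_lit 6)) (nat_lit 48)) (nat_lit 0) (nat_lit 64) = true := by decide +kernel
theorem th_k_49_0 : allZ (H0.Fi.ncEnt t_P (fun i => ifz (H0.Fi.bit thA i) 0 1) [nat_lit 120, nat_lit 464] thK (H0.Fi.digW (nat_lit 2) (nat_lit 9) (nat_lit 6)) (H0.Fi.digW (nat_lit 2) (nat_lit 9) (nat_lit 6)) (nat_lit 49)) (nat_lit 0) (nat_lit 64) = true := by decide +kernel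
theorem th_k_50_0 : allZ (H0.Fi.ncEnt t_P (fun i => ifz (H0.Fi.bit thA i) 0 1) [nat_lit 120, nat_lit 464] thK (H0.Fi.digW (nat_lit 2) (nat_lit 9) (nat_lit 6)) (H0.Fi.digW (nat_lit 2) (nat_lit 9) (nat_lit 6)) (nat_lit 50)) (nat_lit 0) (nat_lit 64) = true := by decide +kernel
theorem th_k_51_0 : allZ (H0.Fi.ncEnt t_P (fun i => ifz (H0.Fi.bit thA i) 0 1) [nat_lit 120, nat_lit 464] thK (H0.Fi.digW (nat_lit 2) (nat_lit 9) (nat_lit 6)) (H0.Fi.digW (nat_lit 2) (nat_lit 9) (nat_lit 6)) (nat_lit 51)) (nat_lit 0) (nat_lit 64) = true := by decide +kernel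
theorem th_k_52_0 : allZ (H0.Fi.ncEnt t_P (fun i => ifz (H0.Fi.bit thA i) 0 1) [nat_lit 120, nat_lit 464] thK (H0.Fi.digW (nat_lit 2) (nat_lit 9) (nat_lit 6)) (H0.Fi.digW (nat_lit 2) (nat_lit 9) (nat_lit 6)) (nat_lit 52)) (nat_lit 0) (nat_lit 64) = true := by decide +kernel
theorem th_k_53_0 : allZ (H0.Fi.ncEnt t_P (fun i => ifz (H0.Fi.bit thA i) 0 1) [nat_lit 120, nat_lit 464] thK (H0.Fi.digW (nat_lit 2) (nat_lit 9) (nat_lit 6)) (H0.Fi.digW (nat_lit 2) (nat_lit 9) (nat_lit 6)) (nat_lit 53)) (nat_lit 0) (nat_lit 64) = true := by decide +kernel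
theorem th_k_54_0 : allZ (H0.Fi.ncEnt t_P (fun i => ifz (H0.Fi.bit thA i) 0 1) [nat_lit 120, nat_lit 464] thK (H0.Fi.digW (nat_lit 2) (nat_lit 9) (nat_lit 6)) (H0.Fi.digW (nat_lit 2) (nat_lit 9) (nat_lit 6)) (nat_lit 54)) (nat_lit 0) (nat_lit 64) = true := by decide +kernel
theorem th_k_55_0 : allZ (H0.Fi.ncEnt t_P (fun i => ifz (H0.Fi.bit thA i) 0 1) [nat_lit 120, nat_lit 464] thK (H0.Fi.digW (nat_lit 2) (nat_lit 9) (nat_lit 6)) (H0.Fi.digW (nat_lit 2) (nat_lit 9) (nat_lit 6)) (nat_lit 55)) (nat_lit 0) (nat_lit 64) = true := by decide +kernel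
theorem th_k_56_0 : allZ (H0.Fi.ncEnt t_P (fun i => ifz (H0.Fi.bit thA i) 0 1) [nat_lit 120, nat_lit 464] thK (H0.Fi.digW (nat_lit 2) (nat_lit 9) (nat_lit 6)) (H0.Fi.digW (nat_lit 2) (nat_lit 9) (nat_lit 6)) (nat_lit 56)) (nat_lit 0) (nat_lit 64) = true := by decide +kernel
theorem th_k_57_0 : allZ (H0.Fi.ncEnt t_P (fun i => ifz (H0.Fi.bit thA i) 0 1) [nat_lit 120, nat_lit 464] thK (H0.Fi.digW (nat_lit 2) (nat_lit 9) (nat_lit 6)) (H0.Fi.digW (nat_lit 2) (nat_lit 9) (nat_lit 6)) (nat_lit 57)) (nat_lit 0) (nat_lit 64) = true := by decide +kernel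
theorem th_k_58_0 : allZ (H0.Fi.ncEnt t_P (fun i => ifz (H0.Fi.bit thA i) 0 1) [nat_lit 120, nat_lit 464] thK (H0.Fi.digW (nat_lit 2) (nat_lit 9) (nat_lit 6)) (H0.Fi.digW (nat_lit 2) (nat_lit 9) (nat_lit 6)) (nat_lit 58)) (nat_lit 0) (nat_lit 64) = true := by decide +kernel
theorem th_k_59_0 : allZ (H0.Fi.ncEnt t_P (fun i => ifz (H0.Fi.bit thA i) 0 1) [nat_lit 120, nat_lit 464] thK (H0.Fi.digW (nat_lit 2) (nat_lit 9) (nat_lit 6)) (H0.Fi.digW (nat_lit 2) (nat_lit 9) (nat_lit 6)) (nat_lit 59)) (nat_lit 0) (nat_lit 64) = true := by decide +kernel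
theorem th_k_60_0 : allZ (H0.Fi.ncEnt t_P (fun i => ifz (H0.Fi.bit thA i) 0 1) [nat_lit 120, nat_lit 464] thK (H0.Fi.digW (nat_lit 2) (nat_lit 9) (nat_lit 6)) (H0.Fi.digW (nat_lit 2) (nat_lit 9) (nat_lit 6)) (nat_lit 60)) (nat_lit 0) (nat_lit 64) = true := by decide +kernel
theorem th_k_61_0 : allZ (H0.Fi.ncEnt t_P (fun i => ifz (H0.Fi.bit thA i) 0 1) [nat_lit 120, nat_lit 464] thK (H0.Fi.digW (nat_lit 2) (nat_lit 9) (nat_lit 6)) (H0.Fi.digW (nat_lit 2) (nat_lit 9) (nat_lit 6)) (nat_lit 61)) (nat_lit 0) (nat_lit 64) = true := by decide +kernel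
theorem th_k_62_0 : allZ (H0.Fi.ncEnt t_P (fun i => ifz (H0.Fi.bit thA i) 0 1) [nat_lit 120, nat_lit 464] thK (H0.Fi.digW (nat_lit 2) (nat_lit 9) (nat_lit 6)) (H0.Fi.digW (nat_lit 2) (nat_lit 9) (nat_lit 6)) (nat_lit 62)) (nat_lit 0) (nat_lit 64) = true := by decide +kernel
theorem th_k_63_0 : allZ (H0.Fi.ncEnt t_P (fun i => ifz (H0.Fi.bit thA i) 0 1) [nat_lit 120, nat_lit 464] thK (H0.Fi.digW (nat_lit 2) (nat_lit 9) (nat_lit 6)) (H0.Fi.digW (nat_lit 2) (nat_lit 9) (nat_lit 6)) (nat_lit 63)) (nat_lit 0) (nat_lit 64) = true := by decide +kernel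
theorem th_f_0_0 : allZ (H0.Fi.ncEnt t_P id [nat_lit 108, nat_lit 380] thF (H0.Fi.digW (nat_lit 2) (nat_lit 9) (nat_lit 6)) (H0.Fi.digW (nat_lit 2) (nat_lit 0) (nat_lit 9)) (nat_lit 0)) (nat_lit 0) (nat_lit 512) = true := by decide +kernel
theorem th_f_1_0 : allZ (H0.Fi.ncEnt t_P id [nat_lit 108, nat_lit 380] thF (H0.Fi.digW (nat_lit 2) (nat_lit 9) (nat_lit 6)) (H0.Fi.digW (nat_lit 2) (nat_lit 0) (nat_lit 9)) (nat_lit 1)) (nat_lit 0) (nat_lit 512) = true := by decide +kernel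
theorem th_f_2_0 : allZ (H0.Fi.ncEnt t_P id [nat_lit 108, nat_lit 380] thF (H0.Fi.digW (nat_lit 2) (nat_lit 9) (nat_lit 6)) (H0.Fi.digW (nat_lit 2) (nat_lit 0) (nat_lit 9)) (nat_lit 2)) (nat_lit 0) (nat_lit 512) = true := by decide +kernel
theorem th_f_3_0 : allZ (H0.Fi.ncEnt t_P id [nat_lit 108, nat_lit 380] thF (H0.Fi.digW (nat_lit 2) (nat_lit 9) (nat_lit 6)) (H0.Fi.digW (nat_lit 2) (nat_lit 0) (nat_lit 9)) (nat_lit 3)) (nat_lit 0) (nat_lit 512) = true := by decide +kernel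
theorem th_f_4_0 : allZ (H0.Fi.ncEnt t_P id [nat_lit 108, nat_lit 380] thF (H0.Fi.digW (nat_lit 2) (nat_lit 9) (nat_lit 6)) (H0.Fi.digW (nat_lit 2) (nat_lit 0) (nat_lit 9)) (nat_lit 4)) (nat_lit 0) (nat_lit 512) = true := by decide +kernel
theorem th_f_5_0 : allZ (H0.Fi.ncEnt t_P id [nat_lit 108, nat_lit 380] thF (H0.Fi.digW (nat_lit 2) (nat_lit 9) (nat_lit 6)) (H0.Fi.digW (nat_lit 2) (nat_lit 0) (nat_lit 9)) (nat_lit 5)) (nat_lit 0) (nat_lit 512) = true := by decide +kernel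
theorem th_f_6_0 : allZ (H0.Fi.ncEnt t_P id [nat_lit 108, nat_lit 380] thF (H0.Fi.digW (nat_lit 2) (nat_lit 9) (nat_lit 6)) (H0.Fi.digW (nat_lit 2) (nat_lit 0) (nat_lit 9)) (nat_lit 6)) (nat_lit 0) (nat_lit 512) = true := by decide +kernel
theorem th_f_7_0 : allZ (H0.Fi.ncEnt t_P id [nat_lit 108, nat_lit 380] thF (H0.Fi.digW (nat_lit 2) (nat_lit 9) (nat_lit 6)) (H0.Fi.digW (nat_lit 2) (nat_lit 0) (nat_lit 9)) (nat_lit 7)) (nat_lit 0) (nat_lit 512) = true := by decide +kernel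
theorem th_f_8_0 : allZ (H0.Fi.ncEnt t_P id [nat_lit 108, nat_lit 380] thF (H0.Fi.digW (nat_lit 2) (nat_lit 9) (nat_lit 6)) (H0.Fi.digW (nat_lit 2) (nat_lit 0) (nat_lit 9)) (nat_lit 8)) (nat_lit 0) (nat_lit 512) = true := by decide +kernel
theorem th_f_9_0 : allZ (H0.Fi.ncEnt t_P id [nat_lit 108, nat_lit 380] thF (H0.Fi.digW (nat_lit 2) (nat_lit 9) (nat_lit 6)) (H0.Fi.digW (nat_lit 2) (nat_lit 0) (nat_lit 9)) (nat_lit 9)) (nat_lit 0) (nat_lit 512) = true := by decide +kernel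
theorem th_f_10_0 : allZ (H0.Fi.ncEnt t_P id [nat_lit 108, nat_lit 380] thF (H0.Fi.digW (nat_lit 2) (nat_lit 9) (nat_lit 6)) (H0.Fi.digW (nat_lit 2) (nat_lit 0) (nat_lit 9)) (nat_lit 10)) (nat_lit 0) (nat_lit 512) = true := by decide +kernel
theorem th_f_11_0 : allZ (H0.Fi.ncEnt t_P id [nat_lit 108, nat_lit 380] thF (H0.Fi.digW (nat_lit 2) (nat_lit 9) (nat_lit 6)) (H0.Fi.digW (nat_lit 2) (nat_lit 0) (nat_lit 9)) (nat_lit 11)) (nat_lit 0) (nat_lit 512) = true := by decide +kernel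
theorem th_f_12_0 : allZ (H0.Fi.ncEnt t_P id [nat_lit 108, nat_lit 380] thF (H0.Fi.digW (nat_lit 2) (nat_lit 9) (nat_lit 6)) (H0.Fi.digW (nat_lit 2) (nat_lit 0) (nat_lit 9)) (nat_lit 12)) (nat_lit 0) (nat_lit 512) = true := by decide +kernel
theorem th_f_13_0 : allZ (H0.Fi.ncEnt t_P id [nat_lit 108, nat_lit 380] thF (H0.Fi.digW (nat_lit 2) (nat_lit 9) (nat_lit 6)) (H0.Fi.digW (nat_lit 2) (nat_lit 0) (nat_lit 9)) (nat_lit 13)) (nat_lit 0) (nat_lit 512) = true := by decide +kernel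
theorem th_f_14_0 : allZ (H0.Fi.ncEnt t_P id [nat_lit 108, nat_lit 380] thF (H0.Fi.digW (nat_lit 2) (nat_lit 9) (nat_lit 6)) (H0.Fi.digW (nat_lit 2) (nat_lit 0) (nat_lit 9)) (nat_lit 14)) (nat_lit 0) (nat_lit 512) = true := by decide +kernel
theorem th_f_15_0 : allZ (H0.Fi.ncEnt t_P id [nat_lit 108, nat_lit 380] thF (H0.Fi.digW (nat_lit 2) (nat_lit 9) (nat_lit 6)) (H0.Fi.digW (nat_lit 2) (nat_lit 0) (nat_lit 9)) (nat_lit 15)) (nat_lit 0) (nat_lit 512) = true := by decide +kernel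
theorem th_f_16_0 : allZ (H0.Fi.ncEnt t_P id [nat_lit 108, nat_lit 380] thF (H0.Fi.digW (nat_lit 2) (nat_lit 9) (nat_lit 6)) (H0.Fi.digW (nat_lit 2) (nat_lit 0) (nat_lit 9)) (nat_lit 16)) (nat_lit 0) (nat_lit 512) = true := by decide +kernel
theorem th_f_17_0 : allZ (H0.Fi.ncEnt t_P id [nat_lit 108, nat_lit 380] thF (H0.Fi.digW (nat_lit 2) (nat_lit 9) (nat_lit 6)) (H0.Fi.digW (nat_lit 2) (nat_lit 0) (nat_lit 9)) (nat_lit 17)) (nat_lit 0) (nat_lit 512) = true := by decide +kernel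
theorem th_f_18_0 : allZ (H0.Fi.ncEnt t_P id [nat_lit 108, nat_lit 380] thF (H0.Fi.digW (nat_lit 2) (nat_lit 9) (nat_lit 6)) (H0.Fi.digW (nat_lit 2) (nat_lit 0) (nat_lit 9)) (nat_lit 18)) (nat_lit 0) (nat_lit 512) = true := by decide +kernel
theorem th_f_19_0 : allZ (H0.Fi.ncEnt t_P id [nat_lit 108, nat_lit 380] thF (H0.Fi.digW (nat_lit 2) (nat_lit 9) (nat_lit 6)) (H0.Fi.digW (nat_lit 2) (nat_lit 0) (nat_lit 9)) (nat_lit 19)) (nat_lit 0) (nat_lit 512) = true := by decide +kernel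
theorem th_f_20_0 : allZ (H0.Fi.ncEnt t_P id [nat_lit 108, nat_lit 380] thF (H0.Fi.digW (nat_lit 2) (nat_lit 9) (nat_lit 6)) (H0.Fi.digW (nat_lit 2) (nat_lit 0) (nat_lit 9)) (nat_lit 20)) (nat_lit 0) (nat_lit 512) = true := by decide +kernel
theorem th_f_21_0 : allZ (H0.Fi.ncEnt t_P id [nat_lit 108, nat_lit 380] thF (H0.Fi.digW (nat_lit 2) (nat_lit 9) (nat_lit 6)) (H0.Fi.digW (nat_lit 2) (nat_lit 0) (nat_lit 9)) (nat_lit 21)) (nat_lit 0) (nat_lit 512) = true := by decide +kernel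
theorem th_f_22_0 : allZ (H0.Fi.ncEnt t_P id [nat_lit 108, nat_lit 380] thF (H0.Fi.digW (nat_lit 2) (nat_lit 9) (nat_lit 6)) (H0.Fi.digW (nat_lit 2) (nat_lit 0) (nat_lit 9)) (nat_lit 22)) (nat_lit 0) (nat_lit 512) = true := by decide +kernel

end H18.TE.U
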